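import Cfsg.Agent.Lib.Fusion.IndexP.System
import Cfsg.Agent.Lib.Fusion.PPowerIndex
import Mathlib.GroupTheory.IndexNormal

/-!
Subsystems of `p`-power index.
-/

set_option autoImplicit false

namespace Cfsg.Agent.Fusion.IndexP

open Cfsg.FusionSystem (centralizerIn normalizerIn)

universe u

variable {Ω : Type u} [Group Ω] {S T : Subgroup Ω} {F : FusionSystem S} {p : ℕ}
  [Finite S] [Fact p.Prime]

/-- The subsystem over a normal subgroup of index `p`. -/
theorem exists_index_p (hS : IsPGroup p S) (hF : F.IsSaturated p) (hTS : T ≤ S)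
    [hn : (T.subgroupOf S).Normal] (hi : (T.subgroupOf S).index = p)
    (hhyp : F.hyperfocalSubgroup p ≤ T) :
    ∃ E : FusionSystem T, E.IsSaturated p ∧ E.HasPPowerIndexIn F p := by
  have hTn : ∀ s ∈ S, ∀ x ∈ T, s * x * s⁻¹ ∈ T := fun s hs x hx =>
    Subgroup.mem_subgroupOf.mp (hn.conj_mem ⟨x, hTS hx⟩ (Subgroup.mem_subgroupOf.mpr hx) ⟨s, hs⟩)
  have hsc := stronglyClosed_of_hyperfocal_le hS hF hTS hTn hhyp
  obtain ⟨D, -⟩ := exists_data hS hF hTS hi hhyp
  refine ⟨sys D hsc, isSaturated_sys D hS hF hTn,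
    fun P φ hφ => hφ.1, hhyp, fun P hPT α hα => ?_⟩
  have hPS : P ≤ S := hPT.trans hTS
  have := finite_of_le hPS
  refine oP_induction (C := fun a => a ∈ (sys D hsc).autGroup P) (Subgroup.one_mem _)
    (fun a b _ _ => Subgroup.mul_mem _) (fun a _ => Subgroup.inv_mem _) ?_ α hα
  intro a ha hcop
  obtain ⟨e, he, her⟩ := exists_realiser D (mapTo_of_mem_autGroup hPS ha)
  obtain ⟨k, hk1, hk0⟩ := Nat.chineseRemainder hcop 1 0
  have hak : a ^ k = a := by
    conv_rhs => rw [← pow_one a]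
    exact pow_eq_pow_iff_modEq.mpr hk1
  obtain ⟨h1, h2⟩ := tau_pow D e he k
  refine (mem_autGroup_iff hPT).mpr ((mapTo_sys_iff D).mpr ⟨mapTo_of_mem_autGroup hPS ha, hPT,
    (e ^ k : Equiv.Perm D.X), h1, hak ▸ realises_pow D hPS ha e her k, ?_⟩)
  rw [h2, nsmul_eq_mul, (ZMod.natCast_eq_zero_iff k p).mpr (Nat.modEq_zero_iff_dvd.mp hk0),
    zero_mul]

omit [Finite S] [Fact p.Prime] in
theorem oP_le_of_pPowerIndex {E : FusionSystem T} (hi : E.HasPPowerIndexIn F p)
    {P : Subgroup Ω} (hP : P ≤ T) : oP F p P ≤ oP E p P := by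
  intro α hα
  refine oP_induction (C := fun a => a ∈ oP E p P) (Subgroup.one_mem _)
    (fun a b _ _ => Subgroup.mul_mem _) (fun a _ => Subgroup.inv_mem _) ?_ α hα
  intro a ha hcop
  exact mem_oP_of_coprime (hi.2.2 P hP (mem_oP_of_coprime ha hcop)) hcop

/-- Existence of the saturated subsystem of `p`-power index over any subgroup containing the
hyperfocal subgroup. -/
theorem exists_pPowerIndex (hS : IsPGroup p S) (hF : F.IsSaturated p) (hTS : T ≤ S)
    (hhyp : F.hyperfocalSubgroup p ≤ T) :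
    ∃ E : FusionSystem T, E.IsSaturated p ∧ E.HasPPowerIndexIn F p := by
  induction hk : Nat.card S using Nat.strong_induction_on generalizing S with
  | h k ih =>
  rcases eq_or_lt_of_le hTS with rfl | hlt
  · exact ⟨F, hF, fun P => Set.Subset.rfl, hyperfocal_le, fun P _ => Subgroup.map_subtype_le _⟩
  have := finite_of_le hTS
  have hp : p.Prime := Fact.out
  obtain ⟨a, ha⟩ := hS.exists_card_eq
  obtain ⟨b, hb⟩ := (hS.to_le hTS).exists_card_eq
  have hcard : Nat.card (T.subgroupOf S) = p ^ b := by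
    rw [Nat.card_congr (Subgroup.subgroupOfEquivOfLe hTS).toEquiv, hb]
  have hba : b < a := by
    have h1 : Nat.card T < Nat.card S := by
      refine lt_of_le_of_ne (Subgroup.card_le_of_le hTS) fun he => hlt.ne ?_
      exact Subgroup.eq_of_le_of_card_ge hTS he.ge
    rw [ha, hb] at h1
    exact (Nat.pow_lt_pow_iff_right hp.one_lt).mp h1
  obtain ⟨U', hU', hTU'⟩ := Sylow.exists_subgroup_card_pow_prime_le p
    (m := a - 1) (ha ▸ pow_dvd_pow p (Nat.sub_le a 1)) (T.subgroupOf S) hcard (by omega)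
  set U := U'.map S.subtype with hUdef
  have hUS : U ≤ S := Subgroup.map_subtype_le _
  have hUU : U.subgroupOf S = U' := Subgroup.comap_map_eq_self_of_injective S.subtype_injective _
  have hindex : (U.subgroupOf S).index = p := by
    have h1 := U'.card_mul_index
    rw [hU', ha, show p ^ a = p ^ (a - 1) * p by rw [← pow_succ]; congr 1; omega] at h1
    rw [hUU]
    exact Nat.eq_of_mul_eq_mul_left (pow_pos hp.pos _) h1
  haveI : (U.subgroupOf S).Normal := by
    refine Subgroup.normal_of_index_eq_minFac_card ?_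
    rw [hindex, ha, Nat.pow_minFac (by omega), hp.minFac_eq]
  have hTU : T ≤ U := fun x hx => ⟨⟨x, hTS hx⟩, hTU' (Subgroup.mem_subgroupOf.mpr hx), rfl⟩
  obtain ⟨E, hE, hEi⟩ := exists_index_p hS hF hUS hindex (hhyp.trans hTU)
  have := finite_of_le hUS
  have hlt' : Nat.card U < k := by
    rw [← hk, hUdef, Subgroup.card_map_of_injective S.subtype_injective, hU', ha]
    exact Nat.pow_lt_pow_right hp.one_lt (by omega)
  have hhE : E.hyperfocalSubgroup p ≤ T := hyperfocal_le_iff.mpr fun P hP α hα x hx =>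
    hhyp (mem_hyperfocal (hP.trans hUS) (oP_mono hEi.1 P hα) hx)
  obtain ⟨E', hE', hE'i⟩ := ih _ hlt' (S := U) (F := E) (hS.to_le hUS) hE hTU hhE rfl
  refine ⟨E', hE', fun P => (hE'i.1 P).trans (hEi.1 P), hhyp, fun P hP => ?_⟩
  exact (oP_le_of_pPowerIndex hEi (hP.trans hTU)).trans (hE'i.2.2 P hP)

end Cfsg.Agent.Fusion.IndexP
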