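import Mathlib.GroupTheory.PGroup
import Mathlib.Algebra.BigOperators.Group.Finset.Basic
import Mathlib.Algebra.BigOperators.Group.Finset.Sigma
import Mathlib.Data.Fintype.BigOperators

/-!
Sums of invariant functions over sets acted on by a `p`-group.
-/

set_option autoImplicit false

namespace Cfsg.Agent.Fusion.IndexP

/-- The non-fixed points with a given value. -/
def moved {Q I A : Type*} [Group Q] [MulAction Q I] (φ : I → A) (a : A)
    (hφ : ∀ (q : Q) i, φ (q • i) = φ i) : SubMulAction Q I where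
  carrier := {i | (¬ ∀ q : Q, q • i = i) ∧ φ i = a}
  smul_mem' := fun c i hi => by
    refine ⟨fun h => hi.1 fun q => ?_, (hφ c i).trans hi.2⟩
    have h1 := h c⁻¹
    rw [inv_smul_smul] at h1
    have h2 := h q
    rwa [← h1] at h2

theorem dvd_card_moved {p : ℕ} [Fact p.Prime] {Q I A : Type*} [Group Q] [MulAction Q I]
    [Finite I] (hQ : IsPGroup p Q) (φ : I → A) (a : A) (hφ : ∀ (q : Q) i, φ (q • i) = φ i) :
    p ∣ Nat.card {i : I // (¬ ∀ q : Q, q • i = i) ∧ φ i = a} := by
  have h := hQ.card_modEq_card_fixedPoints (moved φ a hφ)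
  have h0 : Nat.card (MulAction.fixedPoints Q (moved φ a hφ)) = 0 :=
    Nat.card_eq_zero.mpr (Or.inl ⟨fun x => x.1.2.1 fun q => congrArg Subtype.val (x.2 q)⟩)
  rw [h0] at h
  exact Nat.modEq_zero_iff_dvd.mp h

open scoped Classical in
/-- An invariant function with values in a group of exponent `p` sums over the fixed points. -/
theorem sum_eq_sum_fixed {p : ℕ} [Fact p.Prime] {Q I A : Type*} [Group Q] [MulAction Q I]
    [Fintype I] [AddCommGroup A] (hQ : IsPGroup p Q) (hA : ∀ a : A, p • a = 0) (φ : I → A)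
    (hφ : ∀ (q : Q) i, φ (q • i) = φ i) :
    ∑ i, φ i = ∑ i ∈ Finset.univ.filter (fun i => ∀ q : Q, q • i = i), φ i := by
  have hsplit := Finset.sum_filter_add_sum_filter_not Finset.univ
    (fun i : I => ∀ q : Q, q • i = i) φ
  have hzero : ∑ i ∈ Finset.univ.filter (fun i => ¬ ∀ q : Q, q • i = i), φ i = 0 := by
    rw [← Finset.sum_fiberwise_of_maps_to (fun i hi => Finset.mem_image_of_mem φ hi)]
    refine Finset.sum_eq_zero fun a _ => ?_
    rw [Finset.sum_congr rfl (g := fun _ => a) (fun i hi => (Finset.mem_filter.mp hi).2),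
      Finset.sum_const, Finset.filter_filter]
    obtain ⟨k, hk⟩ := dvd_card_moved (p := p) hQ φ a hφ
    rw [Nat.card_eq_fintype_card, Fintype.card_subtype] at hk
    rw [hk, mul_comm, mul_nsmul', hA, nsmul_zero]
  rw [hzero, add_zero] at hsplit
  exact hsplit.symm

end Cfsg.Agent.Fusion.IndexP
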