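import Cfsg.Agent.Lib.Fusion.PPowerIndex
import Cfsg.Agent.Lib.Fusion.Transfer
import Cfsg.Agent.Lib.Fusion.IndexP.PSum
import Mathlib.Data.ZMod.Basic
import Mathlib.GroupTheory.SpecificGroups.Cyclic

/-!
A biset with an equivariant `ZMod p` valued function, for a normal subgroup of index `p` containing
the hyperfocal subgroup.
-/

set_option autoImplicit false

namespace Cfsg.Agent.Fusion.IndexP

open Cfsg.FusionSystem (centralizerIn normalizerIn)

universe u

variable {Ω : Type u} [Group Ω] {S T P : Subgroup Ω} {F : FusionSystem S} {p : ℕ} {f : Ω → Ω}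

/-- All quotients `x⁻¹ f(x)` lie in a normal subgroup with abelian quotient containing the
hyperfocal subgroup. -/
theorem inv_mul_mem_of_hyp [Finite S] [Fact p.Prime] (hS : IsPGroup p S) (hF : F.IsSaturated p)
    (hcomm : ∀ s ∈ S, ∀ x ∈ S, x⁻¹ * cj s x ∈ T) (hT : F.hyperfocalSubgroup p ≤ T)
    (hf : MapTo F P f) {x : Ω} (hx : x ∈ P) : x⁻¹ * f x ∈ T := by
  refine alperin_prop hS hF (fun P f => ∀ x ∈ P, x⁻¹ * f x ∈ T) ?_ ?_ ?_ ?_ ?_ hf x hx
  · intro P f g _ h hfg x hx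
    rw [hfg x hx]; exact h x hx
  · intro P s hP hs x hx
    exact hcomm s hs x (hP hx)
  · intro P Q f g _ _ hfQ h h' x hx
    have := T.mul_mem (h x hx) (h' _ (hfQ x hx))
    rwa [show x⁻¹ * f x * ((f x)⁻¹ * g (f x)) = x⁻¹ * g (f x) by group] at this
  · intro P f g hf _ hgf h y hy
    obtain ⟨x, hx, rfl⟩ := (hf.mem_img_iff le_rfl).mp hy
    rw [hgf x hx]
    have := T.inv_mem (h x hx)
    rwa [mul_inv_rev, inv_inv] at this
  · intro Q hQ α hα x hx
    have hQn := isFullyNormalized_of_eq_top_or_essential hQ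
    obtain ⟨β, hβ, c, hc, rfl⟩ := exists_eq_mul_of_isFullyNormalized hS hF hQn hα
    obtain ⟨s, hs, hsc⟩ := mem_autInducedBy_iff_cj.mp hc
    rw [autFun_mul _ _ hx]
    have h1 : x⁻¹ * autFun c x ∈ T := by rw [hsc x hx]; exact hcomm s hs x (hQn.1 hx)
    have h2 := T.mul_mem h1 (hT (mem_hyperfocal hQn.1 hβ (autFun_mem c hx)))
    rwa [show x⁻¹ * autFun c x * ((autFun c x)⁻¹ * autFun β (autFun c x)) =
      x⁻¹ * autFun β (autFun c x) by group] at h2

/-- A character of `S` with kernel `T`. -/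
theorem exists_character [Finite S] [hp : Fact p.Prime] (hT : T ≤ S) [hn : (T.subgroupOf S).Normal]
    (hi : (T.subgroupOf S).index = p) :
    ∃ χ : Ω → ZMod p, (∀ x ∈ S, ∀ y ∈ S, χ (x * y) = χ x + χ y) ∧
      (∀ x ∈ S, (χ x = 0 ↔ x ∈ T)) ∧ ∀ a : ZMod p, ∃ s ∈ S, χ s = a := by
  classical
  have hcard : Nat.card (S ⧸ T.subgroupOf S) = p := hi
  have := isCyclic_of_prime_card hcard
  let e : S ⧸ T.subgroupOf S ≃* Multiplicative (ZMod p) :=
    mulEquivOfPrimeCardEq hcard (by simp)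
  refine ⟨fun x => if h : x ∈ S then (e (QuotientGroup.mk ⟨x, h⟩)).toAdd else 0,
    fun x hx y hy => ?_, fun x hx => ?_, fun a => ?_⟩
  · simp only [hx, hy, S.mul_mem hx hy, dif_pos]
    rw [← toAdd_mul, ← map_mul, ← QuotientGroup.mk_mul]
    rfl
  · simp only [hx, dif_pos, toAdd_eq_zero, map_eq_one_iff e e.injective, QuotientGroup.eq_one_iff]
    exact Subgroup.mem_subgroupOf
  · obtain ⟨s, hs⟩ := QuotientGroup.mk_surjective (e.symm (Multiplicative.ofAdd a))
    refine ⟨s, s.2, ?_⟩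
    simp only [s.2, dif_pos, Subtype.coe_eta, hs, MulEquiv.apply_symm_apply, toAdd_ofAdd]

/-- A biset with a function equivariant for the character. -/
structure Data (F : FusionSystem S) (T : Subgroup Ω) (p : ℕ) where
  /-- The character. -/
  χ : Ω → ZMod p
  χ_mul : ∀ x ∈ S, ∀ y ∈ S, χ (x * y) = χ x + χ y
  χ_eq_zero : ∀ x ∈ S, (χ x = 0 ↔ x ∈ T)
  χ_surj : ∀ a : ZMod p, ∃ s ∈ S, χ s = a
  /-- The points. -/
  X : Type u
  fin : Finite X
  /-- Left action. -/
  l : S → X → X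
  /-- Right action. -/
  r : X → S → X
  l_mul : ∀ a b x, l (a * b) x = l a (l b x)
  l_one : ∀ x, l 1 x = x
  r_mul : ∀ x a b, r x (a * b) = r (r x a) b
  r_one : ∀ x, r x 1 = x
  l_r : ∀ a x b, l a (r x b) = r (l a x) b
  free : ∀ x a b, r x a = r x b → a = b
  graph : ∀ x, ∃ (R : Subgroup Ω) (g : Ω → Ω), MapTo F R g ∧
    ∀ a b : S, l a x = r x b → (a : Ω) ∈ R ∧ g a = b
  stable : ∀ (R : Subgroup Ω) (g : Ω → Ω), MapTo F R g →
    ∃ e : X ≃ X, (∀ x b, e (r x b) = r (e x) b) ∧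
      ∀ a b : S, (a : Ω) ∈ R → g a = b → ∀ x, e (l a x) = l b (e x)
  /-- The equivariant function. -/
  μ : X → ZMod p
  μ_l : ∀ a x, μ (l a x) = χ a + μ x
  μ_r : ∀ x b, μ (r x b) = μ x + χ b
  card_ne : ∃ q : ℕ, ¬ p ∣ q ∧ Nat.card X = q * Nat.card S

theorem exists_data [Finite S] [Fact p.Prime] (hS : IsPGroup p S) (hF : F.IsSaturated p)
    (hT : T ≤ S) [(T.subgroupOf S).Normal] (hi : (T.subgroupOf S).index = p)
    (hhyp : F.hyperfocalSubgroup p ≤ T) :
    ∃ _ : Data F T p, True := by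
  classical
  obtain ⟨χ, hχ, hχ0, hχs⟩ := exists_character (p := p) hT hi
  obtain ⟨X, m, hX, hm, hcard⟩ := exists_stableBiset hS hF
  let := pairAct X
  have hcj : ∀ s ∈ S, ∀ x ∈ S, x⁻¹ * cj s x ∈ T := fun s hs x hx => by
    have hsx : s * x * s⁻¹ ∈ S := S.mul_mem (S.mul_mem hs hx) (S.inv_mem hs)
    have h1 : ∀ y ∈ S, χ y⁻¹ = -χ y := fun y hy => by
      have h2 := hχ y⁻¹ (S.inv_mem hy) y hy
      rw [inv_mul_cancel, (hχ0 1 S.one_mem).mpr T.one_mem] at h2
      exact eq_neg_of_add_eq_zero_left h2.symm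
    rw [cj_apply, ← hχ0 _ (S.mul_mem (S.inv_mem hx) hsx), hχ _ (S.inv_mem hx) _ hsx,
      hχ _ (S.mul_mem hs hx) _ (S.inv_mem hs), hχ _ hs _ hx, h1 x hx, h1 s hs]
    abel
  obtain ⟨π, hπl, hπr⟩ := exists_equivariant_quot (X := X.carrier) (⊤ : Subgroup S)
    (T.subgroupOf S) fun x => by
      obtain ⟨P, f, hf, hfix⟩ := hX.fix_iff x
      refine ⟨1, fun a _ b h => ?_⟩
      obtain ⟨ha, hab⟩ := hfix a b h
      rw [mul_one, QuotientGroup.mk_one, QuotientGroup.eq_one_iff, Subgroup.mem_subgroupOf]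
      have h1 := inv_mul_mem_of_hyp hS hF hcj hhyp hf ha
      rw [hab] at h1
      have h2 := T.inv_mem h1
      rw [mul_inv_rev, inv_inv] at h2
      have h3 := Subgroup.Normal.conj_mem (inferInstance : (T.subgroupOf S).Normal)
        (b⁻¹ * a) (Subgroup.mem_subgroupOf.mpr h2) a
      have h4 : a * (b⁻¹ * a) * a⁻¹ = a * b⁻¹ := by group
      rw [h4] at h3
      exact h3
  let χq : S ⧸ T.subgroupOf S → ZMod p := Quotient.lift (fun s : S => χ s) fun a b hab => by
    have h1 : ((a⁻¹ * b : S) : Ω) ∈ T :=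
      Subgroup.mem_subgroupOf.mp (QuotientGroup.leftRel_apply.mp hab)
    have h2 : χ b = χ a + χ ((a⁻¹ * b : S) : Ω) := by
      rw [← hχ _ a.2 _ (a⁻¹ * b : S).2, ← Subgroup.coe_mul, mul_inv_cancel_left]
    rw [(hχ0 _ (a⁻¹ * b : S).2).mpr h1, add_zero] at h2
    exact h2.symm
  have hχq : ∀ u v, χq (u * v) = χq u + χq v := fun u v => by
    obtain ⟨a, rfl⟩ := QuotientGroup.mk_surjective u
    obtain ⟨b, rfl⟩ := QuotientGroup.mk_surjective v
    exact hχ a a.2 b b.2
  have hfree : ∀ (b : S) (x : X.carrier), ((1, b) : S × S) • x = x → b = 1 := hX.free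
  refine ⟨{
    χ := χ, χ_mul := hχ, χ_eq_zero := hχ0, χ_surj := hχs, X := X.carrier, fin := X.fin
    l := lm, r := rm
    l_mul := fun a b x => (lm_lm a b x).symm
    l_one := fun x => one_smul (S × S) x
    r_mul := fun x a b => (rm_rm x a b).symm
    r_one := rm_one
    l_r := lm_rm
    free := fun x a b => rm_inj hfree
    graph := fun x => ?_
    stable := fun R g hg => ?_
    μ := fun x => χq (π x)
    μ_l := fun a x => ?_
    μ_r := fun x b => ?_
    card_ne := ?_ }, trivial⟩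
  · obtain ⟨P, f, hf, hfix⟩ := hX.fix_iff x
    refine ⟨P, f, hf, fun a b h => hfix a b ?_⟩
    have h1 : rm (lm a x) b⁻¹ = x := by rw [h, rm_rm, mul_inv_cancel, rm_one]
    rw [lm, rm, inv_inv, smul_smul] at h1
    simpa using h1
  · obtain ⟨e, he, he'⟩ := hX.translate hg
    refine ⟨e, he, fun a b ha hab x => ?_⟩
    have h1 := he' a ha x
    rw [show (⟨g a, hg.mem ha⟩ : S) = b from Subtype.ext hab] at h1
    exact h1
  · show χq (π (lm a x)) = _
    rw [hπl a (Subgroup.mem_top a), hχq]; rfl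
  · show χq (π (rm x b)) = _
    rw [hπr, hχq]; rfl
  · have hq : ∀ (b : S) (x : X.carrier), rm x b = x → b = 1 := fun b x h =>
      rm_inj hfree (x := x) (h.trans (rm_one x).symm)
    obtain ⟨q, hqc⟩ : Nat.card S ∣ Nat.card X.carrier := by
      let R : MulAction S X.carrier :=
        MulAction.compHom X.carrier (MonoidHom.inr S S)
      letI := R
      refine ⟨Nat.card (MulAction.orbitRel.Quotient S X.carrier), ?_⟩
      rw [mul_comm, ← Nat.card_prod]
      refine Nat.card_congr ((MulAction.selfEquivSigmaOrbits S X.carrier).trans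
        ((Equiv.sigmaCongrRight fun ω => ?_).trans (Equiv.sigmaEquivProd _ _)))
      refine (Equiv.ofBijective (fun s : S => (⟨s • ω.out, MulAction.mem_orbit _ _⟩ :
        MulAction.orbit S ω.out)) ⟨fun a b h => ?_, ?_⟩).symm
      · have h1 : a • ω.out = b • ω.out := congrArg Subtype.val h
        have h2 : (b⁻¹ * a) • ω.out = ω.out := by rw [mul_smul, h1, inv_smul_smul]
        exact (inv_mul_eq_one.mp (hfree (b⁻¹ * a) ω.out h2)).symm
      · rintro ⟨_, s, rfl⟩
        exact ⟨s, rfl⟩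
    refine ⟨q, fun hpq => hm ?_, hqc.trans (mul_comm _ _)⟩
    rw [hqc, mul_comm (Nat.card S) q] at hcard
    exact (Nat.modEq_zero_iff_dvd).mp
      ((Nat.ModEq.mul_right_cancel' Nat.card_pos.ne' hcard).symm.trans
        (Nat.modEq_zero_iff_dvd.mpr hpq))

end Cfsg.Agent.Fusion.IndexP
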