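import Cfsg.Agent.Lib.Fusion.IndexP.Tau
import Cfsg.Agent.Lib.Fusion.Puig
import Mathlib.GroupTheory.Perm.Basic

/-!
The saturated subsystem of index `p`.
-/

set_option autoImplicit false

namespace Cfsg.Agent.Fusion.IndexP

open Cfsg.FusionSystem (centralizerIn normalizerIn)

universe u

variable {Ω : Type u} [Group Ω] {S T P R : Subgroup Ω} {F : FusionSystem S} {p : ℕ} {f g : Ω → Ω}
variable (D : Data F T p)

/-- The subsystem of maps realized with value zero. -/
def sys (hsc : F.StronglyClosed T) : FusionSystem T where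
  Hom P := {φ | φ ∈ F.Hom P ∧ P ≤ T ∧
    ∃ e, IsR D e ∧ Realises D e P (ev φ) ∧ tau D e = 0}
  le_of_mem := by
    rintro P φ ⟨hφ, hPT, -⟩
    exact ⟨hPT, fun x => ev_coe φ x ▸ StronglyClosed.map_mem hsc (mapTo_ev hφ) x.2 (hPT x.2)⟩
  injective_of_mem h := F.injective_of_mem h.1
  conj_mem := by
    intro P g hP hg
    have hgS : g ∈ S := hsc.1 hg
    refine ⟨F.conj_mem (hP.trans hsc.1) hgS, hP, lPerm D ⟨g, hgS⟩, isR_lPerm D _,
      (realises_lPerm D ⟨g, hgS⟩).congr D fun x hx => ?_, ?_⟩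
    · rw [ev_apply _ hx]; rfl
    · rw [tau_lPerm, (D.χ_eq_zero g hgS).mpr hg, mul_zero]
  comp_mem := by
    rintro P Q φ ψ ⟨hφ, hPT, e, he, her, het⟩ ⟨hψ, -, e', he', her', het'⟩ h
    refine ⟨F.comp_mem hφ hψ h, hPT, e.trans e', IsR.trans D he he',
      (her.trans D her' (mapTo_ev hφ) fun x hx => ?_).congr D fun x hx => ?_, ?_⟩
    · rw [ev_apply φ hx]; exact h _
    · rw [ev_apply _ hx, ev_apply φ hx, ev_apply ψ (h ⟨x, hx⟩)]
      rfl
    · rw [tau_trans D he he', het, het', add_zero]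
  inv_mem := by
    rintro P φ ⟨hφ, hPT, e, he, her, het⟩
    obtain ⟨ψ, hψ, hψφ⟩ := F.inv_mem hφ
    refine ⟨ψ, ⟨hψ, ?_, e.symm, IsR.symm D he, ?_, by rw [tau_symm D he, het, neg_zero]⟩, hψφ⟩
    · rintro _ ⟨x, rfl⟩
      exact ev_coe φ x ▸ StronglyClosed.map_mem hsc (mapTo_ev hφ) x.2 (hPT x.2)
    · have h := her.symm D (mapTo_ev hφ) (g := ev ψ) fun x hx => by
        rw [ev_apply φ hx, ev_apply ψ ⟨⟨x, hx⟩, rfl⟩]
        exact hψφ ⟨x, hx⟩
      exact fun a b ha hab => h a b (range_eq_img_ev φ ▸ ha) hab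

variable {hsc : F.StronglyClosed T}

theorem mapTo_sys_iff : MapTo (sys D hsc) P f ↔
    MapTo F P f ∧ P ≤ T ∧ ∃ e, IsR D e ∧ Realises D e P f ∧ tau D e = 0 := by
  constructor
  · rintro ⟨φ, ⟨hφ, hPT, e, he, her, het⟩, hφf⟩
    exact ⟨⟨φ, hφ, hφf⟩, hPT, e, he, her.congr D fun x hx => by rw [ev_apply φ hx, hφf ⟨x, hx⟩],
      het⟩
  · rintro ⟨⟨φ, hφ, hφf⟩, hPT, e, he, her, het⟩
    exact ⟨φ, ⟨hφ, hPT, e, he, her.congr D fun x hx => by rw [ev_apply φ hx, hφf ⟨x, hx⟩], het⟩,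
      hφf⟩

theorem exists_realiser (hf : MapTo F P f) : ∃ e, IsR D e ∧ Realises D e P f :=
  D.stable P f hf

theorem tau_pow (e : Equiv.Perm D.X) (he : IsR D e) : ∀ n : ℕ,
    IsR D (e ^ n : Equiv.Perm D.X) ∧ tau D (e ^ n : Equiv.Perm D.X) = n • tau D e
  | 0 => ⟨isR_refl D, by rw [pow_zero, zero_smul]; exact tau_refl D⟩
  | n + 1 => by
    obtain ⟨h1, h2⟩ := tau_pow e he n
    rw [pow_succ, show (e ^ n * e : Equiv.Perm D.X) = e.trans (e ^ n : Equiv.Perm D.X) from rfl]
    exact ⟨IsR.trans D he h1, by rw [tau_trans D he h1, h2, succ_nsmul, add_comm]⟩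

theorem realises_pow {α : MulAut P} (hPS : P ≤ S) (hα : α ∈ F.autGroup P) (e : Equiv.Perm D.X)
    (her : Realises D e P (autFun α)) : ∀ n : ℕ,
      Realises D (e ^ n : Equiv.Perm D.X) P (autFun (α ^ n))
  | 0 => fun a b ha hab x => by
      rw [pow_zero, autFun_one ha] at hab
      rw [Subtype.ext hab]
      rfl
  | n + 1 => by
    rw [pow_succ, show (e ^ n * e : Equiv.Perm D.X) = e.trans (e ^ n : Equiv.Perm D.X) from rfl]
    refine ((her.trans D (realises_pow hPS hα e her n) (mapTo_of_mem_autGroup hPS hα)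
      fun x hx => autFun_mem α hx)).congr D fun x hx => ?_
    rw [pow_succ, autFun_mul _ _ hx]

section Saturation

variable [Finite S] [Fact p.Prime]

theorem card_points : Nat.card D.X = Fintype.card (Orb D) * Nat.card S := by
  rw [← Nat.card_eq_fintype_card, ← Nat.card_prod]
  refine (Nat.card_eq_of_bijective (fun z : Orb D × S => D.r (orep D z.1) z.2) ⟨?_, ?_⟩).symm
  · rintro ⟨i, a⟩ ⟨j, b⟩ h
    have h1 := congrArg (omk D) h
    simp only [omk_r, omk_orep] at h1
    subst h1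
    exact Prod.ext rfl (D.free _ _ _ h)
  · intro x
    obtain ⟨b, hb⟩ := exists_orep D x
    exact ⟨(_, b), hb⟩

theorem exists_lPerm_value (a : ZMod p) : ∃ s : S, tau D (lPerm D s) = a := by
  obtain ⟨q, hq, hcard⟩ := D.card_ne
  rw [card_points] at hcard
  have hq0 : (Fintype.card (Orb D) : ZMod p) ≠ 0 := by
    rw [Nat.eq_of_mul_eq_mul_right Nat.card_pos hcard, Ne, ZMod.natCast_eq_zero_iff]
    exact hq
  obtain ⟨s, hs, hsa⟩ := D.χ_surj (a / (Fintype.card (Orb D) : ZMod p))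
  exact ⟨⟨s, hs⟩, by rw [tau_lPerm, hsa, mul_div_cancel₀ _ hq0]⟩

/-- All conjugates of `P` are centralized inside `T`. -/
def CInT (F : FusionSystem S) (T P : Subgroup Ω) : Prop :=
  ∀ Q : Subgroup Ω, F.IsConj P Q → centralizerIn S Q ≤ T

theorem cInT_of_fullyNormalized (hS : IsPGroup p S) (hF : F.IsSaturated p)
    (hsc : F.StronglyClosed T) (hP : F.IsFullyNormalized P) (h : centralizerIn S P ≤ T) :
    CInT F T P := by
  intro Q hQ z hz
  obtain ⟨f, hf, hfP⟩ := isConj_iff.mp (isConj_symm hQ)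
  obtain ⟨g, hg, hgf⟩ := (isReceptive_iff.mp (isReceptive_of_isFullyNormalized hS hF hP)).2
    Q f hf hfP
  have hzE := centralizerIn_le_extSub hf hz
  have h1 := hg.map_mem_centralizerIn (le_extSub hf) hzE hz
  rw [img_congr hgf, hfP] at h1
  have hgT : MapTo F (Subgroup.zpowers z) g := hg.restrict (Subgroup.zpowers_le.mpr hzE)
  exact StronglyClosed.mem_of_map_mem hsc hgT (Subgroup.mem_zpowers z) (h h1)

theorem tau_eq_of_realises (hS : IsPGroup p S) (hC : CInT F T P)
    {e e' : D.X ≃ D.X} (he : IsR D e) (he' : IsR D e') (hf : MapTo F P f)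
    (her : Realises D e P f) (her' : Realises D e' P f) : tau D e = tau D e' := by
  obtain ⟨g, -, hgf, -, -⟩ := hf.exists_iso_inverse
  have h1 : Realises D (e.trans e'.symm) P fun x => g (f x) :=
    her.trans D (her'.symm D hf hgf) hf fun x hx => mem_img_of_mem hx
  have h2 := tau_eq_zero D hf.le (hS.to_le hf.le) hC (IsR.trans D he (IsR.symm D he'))
    (h1.congr D fun x hx => (hgf x hx).symm)
  rw [tau_trans D he (IsR.symm D he'), tau_symm D he', add_neg_eq_zero] at h2
  exact h2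

/-- Adjust a realiser by an element centralizing a subgroup. -/
theorem mapTo_sys_of_outside (hsc : F.StronglyClosed T) {Q : Subgroup Ω} {z : Ω}
    (hzQ : z ∈ centralizerIn S Q) (hzT : z ∉ T) (hf : MapTo F P f) (hPT : P ≤ T) :
    ∃ k ∈ centralizerIn S Q, MapTo (sys D hsc) P (fun x => cj k (f x)) := by
  obtain ⟨e, he, her⟩ := exists_realiser D hf
  obtain ⟨q, hq, hcard⟩ := D.card_ne
  rw [card_points] at hcard
  have hq0 : (Fintype.card (Orb D) : ZMod p) ≠ 0 := by
    rw [Nat.eq_of_mul_eq_mul_right Nat.card_pos hcard, Ne, ZMod.natCast_eq_zero_iff]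
    exact hq
  have hzS : z ∈ S := (mem_centralizerIn.mp hzQ).1
  have hz0 : D.χ z ≠ 0 := fun h => hzT ((D.χ_eq_zero z hzS).mp h)
  set c : ZMod p := (- tau D e) / ((Fintype.card (Orb D) : ZMod p) * D.χ z) with hc
  have hpow : ∀ n : ℕ, D.χ (z ^ n) = n • D.χ z := by
    intro n
    induction n with
    | zero => rw [pow_zero, zero_smul]; exact (D.χ_eq_zero 1 S.one_mem).mpr T.one_mem
    | succ n ih => rw [pow_succ, D.χ_mul _ (S.pow_mem hzS n) _ hzS, ih, succ_nsmul]
  set k := z ^ c.val with hk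
  have hkS : k ∈ S := S.pow_mem hzS _
  refine ⟨k, Subgroup.pow_mem _ hzQ _, (mapTo_sys_iff D).mpr ⟨?_, hPT, e.trans (lPerm D ⟨k, hkS⟩),
    IsR.trans D he (isR_lPerm D _), ?_, ?_⟩⟩
  · exact hf.comp (mapTo_cj le_rfl hkS) fun x hx => hf.mem hx
  · exact her.trans D (realises_lPerm D (P := S) ⟨k, hkS⟩) hf fun x hx => hf.mem hx
  · rw [tau_trans D he (isR_lPerm D _), tau_lPerm]
    show tau D e + _ * D.χ k = 0
    rw [hk, hpow, nsmul_eq_mul, ZMod.natCast_val, ZMod.cast_id, hc]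
    field_simp
    ring

theorem isSaturated_sys (hS : IsPGroup p S) (hF : F.IsSaturated p)
    (hTn : ∀ s ∈ S, ∀ x ∈ T, s * x * s⁻¹ ∈ T) : (sys D hsc).IsSaturated p := by
  intro P hPT
  have hTS : T ≤ S := hsc.1
  have := finite_of_le hTS
  have hTp : IsPGroup p T := hS.to_le hTS
  have hPS : P ≤ S := hPT.trans hTS
  obtain ⟨P₀, hP₀, hP₀n⟩ := exists_isFullyNormalized (F := F) hPS
  obtain ⟨f₀, hf₀, hf₀P⟩ := isConj_iff.mp hP₀
  obtain ⟨e₀, he₀, her₀⟩ := exists_realiser D hf₀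
  obtain ⟨s, hs⟩ := exists_lPerm_value D (- tau D e₀)
  set f₁ : Ω → Ω := fun x => cj (s : Ω) (f₀ x) with hf₁
  have hf₁F : MapTo F P f₁ := hf₀.comp (mapTo_cj le_rfl s.2) fun x hx => hf₀.mem hx
  have hf₁E : MapTo (sys D hsc) P f₁ := (mapTo_sys_iff D).mpr ⟨hf₁F, hPT,
    e₀.trans (lPerm D s), IsR.trans D he₀ (isR_lPerm D s),
    her₀.trans D (realises_lPerm D (P := S) s) hf₀ fun x hx => hf₀.mem hx,
    by rw [tau_trans D he₀ (isR_lPerm D s), hs, add_neg_cancel]⟩
  set P₁ := img f₁ P with hP₁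
  have hP₁T : P₁ ≤ T := hf₁E.img_le
  have hP₁S : P₁ ≤ S := hP₁T.trans hTS
  have hP₁n : F.IsFullyNormalized P₁ := by
    refine ⟨hP₁S, fun Q hQ => ?_⟩
    have hP₀S : P₀ ≤ S := isConj_le_right hP₀
    have hcm : MapTo F (normalizerIn S P₀) (cj (s : Ω)) := mapTo_cj normalizerIn_le s.2
    have he : img (cj (s : Ω)) P₀ = P₁ := by rw [← hf₀P, hP₁, hf₀.img_img le_rfl]
    have h1 : Nat.card (normalizerIn S Q) ≤ Nat.card (normalizerIn S P₀) := by
      refine hP₀n.2 Q (isConj_trans ?_ hQ)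
      rw [← he]
      exact (hcm.restrict (le_normalizerIn hP₀S)).isConj
    refine h1.trans ?_
    rw [← hcm.card_img le_rfl, ← he]
    haveI := finite_of_le (normalizerIn_le (S := S) (P := img (cj (s : Ω)) P₀))
    exact Subgroup.card_le_of_le (img_le_of_forall fun z hz =>
      hcm.map_mem_normalizerIn (le_normalizerIn hP₀S) hz hz)
  have := finite_of_le hP₁S
  have := finite_mulAut P₁
  have hrec := isReceptive_of_isFullyNormalized hS hF hP₁n
  have hEF : (sys D hsc).autGroup P₁ ≤ F.autGroup P₁ := fun α hα =>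
    (mem_autGroup_iff hP₁S).mpr ((mapTo_sys_iff D).mp (mapTo_of_mem_autGroup hP₁T hα)).1
  have hFsyl : IsSylowIn p (autInducedBy S P₁) (F.autGroup P₁) :=
    (isSylowIn_iff_exists (autInducedBy_le_autGroup hP₁S)).mpr
      (isFullyAutomized_of_isFullyNormalized hS hF hP₁n).2
  refine ⟨P₁, hf₁E.isConj, ?_, isReceptive_iff.mpr ⟨hP₁T, ?_⟩⟩
  · -- fully automized
    refine ⟨hP₁T, (isSylowIn_iff_exists (autInducedBy_le_autGroup hP₁T)).mp ?_⟩
    by_cases hC : centralizerIn S P₁ ≤ T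
    · have hC' := cInT_of_fullyNormalized hS hF hsc hP₁n hC
      have hn : F.autGroup P₁ ≤
          Subgroup.normalizer (((sys D hsc).autGroup P₁ : Subgroup _) : Set (MulAut P₁)) := by
        intro β hβ
        refine mem_normalizer_of_forall fun α hα => ?_
        obtain ⟨hαF, -, e, he, her, het⟩ := (mapTo_sys_iff D).mp (mapTo_of_mem_autGroup hP₁T hα)
        obtain ⟨d, hd, hdr⟩ := exists_realiser D (mapTo_of_mem_autGroup hP₁S hβ)
        refine (mem_autGroup_iff hP₁T).mpr ((mapTo_sys_iff D).mpr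
          ⟨mapTo_of_mem_autGroup hP₁S (Subgroup.mul_mem _ (Subgroup.mul_mem _ hβ (hEF hα))
            (Subgroup.inv_mem _ hβ)), hP₁T, d.symm.trans (e.trans d),
            IsR.trans D (IsR.symm D hd) (IsR.trans D he hd), ?_, ?_⟩)
        · have h1 : Realises D d.symm P₁ (autFun β⁻¹) := by
            have h2 := hdr.symm D (mapTo_of_mem_autGroup hP₁S hβ) (g := autFun β⁻¹)
              fun x hx => autFun_inv_autFun β hx
            rwa [img_autFun] at h2
          refine (h1.trans D (her.trans D hdr hαF fun x hx => autFun_mem α hx)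
            (mapTo_of_mem_autGroup hP₁S (Subgroup.inv_mem _ hβ))
            fun x hx => autFun_mem _ hx).congr D fun x hx => ?_
          rw [autFun_mul _ _ hx, autFun_mul _ _ (autFun_mem _ hx)]
        · rw [tau_trans D (IsR.symm D hd) (IsR.trans D he hd), tau_trans D he hd, het,
            tau_symm D hd]
          ring
      have h1 := hFsyl.inf_normal hEF hn
      have h2 : autInducedBy S P₁ ⊓ (sys D hsc).autGroup P₁ = autInducedBy T P₁ := by
        refine le_antisymm ?_ (le_inf (autInducedBy_mono hTS P₁) (autInducedBy_le_autGroup hP₁T))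
        rintro α ⟨hα1, hα2⟩
        obtain ⟨n, hn, hnα⟩ := mem_autInducedBy_iff_cj.mp hα1
        obtain ⟨hαF, -, e, he, her, het⟩ := (mapTo_sys_iff D).mp (mapTo_of_mem_autGroup hP₁T hα2)
        have h3 := tau_eq_of_realises D hS hC' he (isR_lPerm D ⟨n, hn⟩) hαF her
          ((realises_lPerm D ⟨n, hn⟩).congr D fun x hx => hnα x hx)
        rw [het, tau_lPerm] at h3
        obtain ⟨q, hq, hcard⟩ := D.card_ne
        rw [card_points] at hcard
        have hq0 : (Fintype.card (Orb D) : ZMod p) ≠ 0 := by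
          rw [Nat.eq_of_mul_eq_mul_right Nat.card_pos hcard, Ne, ZMod.natCast_eq_zero_iff]
          exact hq
        exact mem_autInducedBy_iff_cj.mpr ⟨n,
          (D.χ_eq_zero n hn).mp ((mul_eq_zero.mp h3.symm).resolve_left hq0), hnα⟩
      rwa [h2] at h1
    · obtain ⟨z, hz, hzT⟩ := SetLike.not_le_iff_exists.mp hC
      have hAE : (sys D hsc).autGroup P₁ = F.autGroup P₁ := by
        refine le_antisymm hEF fun α hα => (mem_autGroup_iff hP₁T).mpr ?_
        obtain ⟨k, hk, hkm⟩ := mapTo_sys_of_outside D hsc hz hzT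
          (mapTo_of_mem_autGroup hP₁S hα) hP₁T
        refine hkm.congr' fun x hx => ?_
        rw [cj_apply, ← (mem_centralizerIn.mp hk).2 _ (autFun_mem α hx), mul_inv_cancel_right]
      have hTS' : autInducedBy T P₁ = autInducedBy S P₁ := by
        refine le_antisymm (autInducedBy_mono hTS P₁) fun α hα => ?_
        obtain ⟨n, hn, hnα⟩ := mem_autInducedBy_iff_cj.mp hα
        have hz0 : D.χ z ≠ 0 := fun h => hzT ((D.χ_eq_zero z hz.1).mp h)
        have hpow : ∀ m : ℕ, D.χ (z ^ m) = m • D.χ z := by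
          intro m
          induction m with
          | zero => rw [pow_zero, zero_smul]; exact (D.χ_eq_zero 1 S.one_mem).mpr T.one_mem
          | succ m ih => rw [pow_succ, D.χ_mul _ (S.pow_mem hz.1 m) _ hz.1, ih, succ_nsmul]
        set k := z ^ (- D.χ n / D.χ z).val with hk
        have hkS : k ∈ S := S.pow_mem hz.1 _
        have hkC : k ∈ centralizerIn S P₁ := Subgroup.pow_mem _ hz _
        refine mem_autInducedBy_iff_cj.mpr ⟨n * k, (D.χ_eq_zero _ (S.mul_mem hn hkS)).mp ?_,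
          fun x hx => ?_⟩
        · rw [D.χ_mul _ hn _ hkS, hk, hpow, nsmul_eq_mul, ZMod.natCast_val, ZMod.cast_id,
            div_mul_cancel₀ _ hz0, add_neg_cancel]
        · rw [hnα x hx, cj_mul]
          congr 1
          rw [cj_apply, ← (mem_centralizerIn.mp hkC).2 _ hx, mul_inv_cancel_right]
      rw [hAE, hTS']
      exact hFsyl
  · -- receptive
    intro R f hf hfR
    obtain ⟨hfF, hRT, e, he, her, het⟩ := (mapTo_sys_iff D).mp hf
    obtain ⟨g, hg, hgf⟩ := (isReceptive_iff.mp hrec).2 R f hfF hfR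
    have hle : extSub T hf ≤ extSub S hfF := fun x hx =>
      ⟨⟨hTS hx.1.1, hx.1.2⟩, hx.2.choose, hTS hx.2.choose_spec.1, hx.2.choose_spec.2⟩
    have hN : extSub T hf ≤ T := fun x hx => hx.1.1
    have hg' := hg.restrict hle
    by_cases hC : centralizerIn S P₁ ≤ T
    · obtain ⟨d, hd, hdr⟩ := exists_realiser D hg'
      refine ⟨g, (mapTo_sys_iff D).mpr ⟨hg', hN, d, hd, hdr, ?_⟩, hgf⟩
      have hC' := cInT_of_fullyNormalized hS hF hsc hP₁n hC
      have hCR : CInT F T R := fun Q hQ =>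
        hC' Q (isConj_trans (isConj_symm (hfR ▸ hfF.isConj)) hQ)
      rw [← het]
      exact tau_eq_of_realises D hS hCR hd he hfF
        ((hdr.mono D (le_extSub hf)).congr D fun x hx => (hgf x hx).symm) her
    · obtain ⟨z, hz, hzT⟩ := SetLike.not_le_iff_exists.mp hC
      obtain ⟨k, hk, hkm⟩ := mapTo_sys_of_outside D hsc hz hzT hg' hN
      exact ⟨_, hkm, fun x hx => by
        show cj k (g x) = f x
        rw [hgf x hx, cj_apply, ← (mem_centralizerIn.mp hk).2 _ (hfR ▸ mem_img_of_mem hx),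
          mul_inv_cancel_right]⟩

end Saturation

end Cfsg.Agent.Fusion.IndexP
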