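import Cfsg.Agent.Lib.Fusion.IndexP.Setup

/-!
The transfer value of a right equivariant permutation of the biset, and its vanishing on
centralizers.
-/

set_option autoImplicit false

namespace Cfsg.Agent.Fusion.IndexP

open Cfsg.FusionSystem (centralizerIn normalizerIn)

universe u

variable {Ω : Type u} [Group Ω] {S T P R : Subgroup Ω} {F : FusionSystem S} {p : ℕ} {f g : Ω → Ω}
variable (D : Data F T p)

instance instFinitePoints : Finite D.X := D.fin

/-- Orbits of the right action. -/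
def orbRel : Setoid D.X where
  r x y := ∃ b, D.r x b = y
  iseqv :=
    ⟨fun x => ⟨1, D.r_one x⟩,
      fun {x y} ⟨b, h⟩ => ⟨b⁻¹, by rw [← h, ← D.r_mul, mul_inv_cancel, D.r_one]⟩,
      fun {x y z} ⟨b, h⟩ ⟨c, h'⟩ => ⟨b * c, by rw [D.r_mul, h, h']⟩⟩

/-- The right orbits. -/
def Orb : Type u := Quotient (orbRel D)

noncomputable instance instFintypeOrb : Fintype (Orb D) :=
  @Fintype.ofFinite _ (Quotient.finite (orbRel D))

/-- Permutations commuting with the right action. -/
def IsR (e : D.X ≃ D.X) : Prop := ∀ x b, e (D.r x b) = D.r (e x) b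

/-- The permutation realizes `f` on `P`. -/
def Realises (e : D.X ≃ D.X) (P : Subgroup Ω) (f : Ω → Ω) : Prop :=
  ∀ a b : S, (a : Ω) ∈ P → f a = b → ∀ x, e (D.l a x) = D.l b (e x)

/-- A representative of a right orbit. -/
noncomputable def orep (i : Orb D) : D.X := Quotient.out i

/-- The orbit of a point. -/
def omk (x : D.X) : Orb D := Quotient.mk (orbRel D) x

/-- The transfer value. -/
noncomputable def tau (e : D.X ≃ D.X) : ZMod p :=
  ∑ i : Orb D, (D.μ (e (orep D i)) - D.μ (orep D i))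

theorem omk_orep (i : Orb D) : omk D (orep D i) = i := Quotient.out_eq i

theorem exists_orep (x : D.X) : ∃ b, D.r (orep D (omk D x)) b = x :=
  Quotient.exact (Quotient.out_eq (Quotient.mk (orbRel D) x))

theorem omk_r (x : D.X) (b : S) : omk D (D.r x b) = omk D x :=
  (Quotient.sound (show (orbRel D).r x (D.r x b) from ⟨b, rfl⟩)).symm

theorem diff_const {e : D.X ≃ D.X} (he : IsR D e) (x : D.X) :
    D.μ (e (orep D (omk D x))) - D.μ (orep D (omk D x)) = D.μ (e x) - D.μ x := by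
  obtain ⟨b, hb⟩ := exists_orep D x
  conv_rhs => rw [← hb, he, D.μ_r, D.μ_r]
  abel

theorem IsR.symm {e : D.X ≃ D.X} (he : IsR D e) : IsR D e.symm := fun x b => by
  apply e.injective
  rw [e.apply_symm_apply, he, e.apply_symm_apply]

theorem IsR.trans {e e' : D.X ≃ D.X} (he : IsR D e) (he' : IsR D e') : IsR D (e.trans e') :=
  fun x b => by show e' (e (D.r x b)) = _; rw [he, he']; rfl

theorem isR_refl : IsR D (Equiv.refl D.X) := fun _ _ => rfl

/-- The permutation of orbits. -/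
noncomputable def orbPerm {e : D.X ≃ D.X} (he : IsR D e) : Orb D ≃ Orb D where
  toFun i := omk D (e (orep D i))
  invFun i := omk D (e.symm (orep D i))
  left_inv i := by
    obtain ⟨b, hb⟩ := exists_orep D (e (orep D i))
    have h1 : e.symm (D.r (orep D (omk D (e (orep D i)))) b) = orep D i := by
      rw [hb, e.symm_apply_apply]
    rw [IsR.symm D he] at h1
    conv_rhs => rw [← omk_orep D i, ← h1, omk_r]
  right_inv i := by
    obtain ⟨b, hb⟩ := exists_orep D (e.symm (orep D i))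
    have h1 : e (D.r (orep D (omk D (e.symm (orep D i)))) b) = orep D i := by
      rw [hb, e.apply_symm_apply]
    rw [he] at h1
    conv_rhs => rw [← omk_orep D i, ← h1, omk_r]

theorem tau_trans {e e' : D.X ≃ D.X} (he : IsR D e) (he' : IsR D e') :
    tau D (e.trans e') = tau D e + tau D e' := by
  have h1 : ∑ i, (D.μ (e' (orep D i)) - D.μ (orep D i)) =
      ∑ i, (D.μ (e' (e (orep D i))) - D.μ (e (orep D i))) := by
    rw [← Equiv.sum_comp (orbPerm D he)]
    exact Finset.sum_congr rfl fun i _ => diff_const D he' (e (orep D i))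
  unfold tau
  rw [h1, ← Finset.sum_add_distrib]
  refine Finset.sum_congr rfl fun i _ => ?_
  show D.μ (e' (e (orep D i))) - D.μ (orep D i) = _
  abel

theorem tau_refl : tau D (Equiv.refl D.X) = 0 :=
  Finset.sum_eq_zero fun _ _ => sub_self _

theorem tau_symm {e : D.X ≃ D.X} (he : IsR D e) : tau D e.symm = - tau D e := by
  have h := tau_trans D he (IsR.symm D he)
  rw [e.self_trans_symm, tau_refl] at h
  exact eq_neg_of_add_eq_zero_right h.symm

/-- Left multiplication. -/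
def lPerm (s : S) : D.X ≃ D.X where
  toFun := D.l s
  invFun := D.l s⁻¹
  left_inv x := by rw [← D.l_mul, inv_mul_cancel, D.l_one]
  right_inv x := by rw [← D.l_mul, mul_inv_cancel, D.l_one]

theorem isR_lPerm (s : S) : IsR D (lPerm D s) := fun x b => D.l_r s x b

theorem realises_lPerm (s : S) : Realises D (lPerm D s) P (cj (s : Ω)) := by
  intro a b _ hab x
  have : b * s = s * a := Subtype.ext (by
    show (b : Ω) * s = s * a
    rw [← hab, cj_apply, inv_mul_cancel_right])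
  show D.l s (D.l a x) = D.l b (D.l s x)
  rw [← D.l_mul, ← D.l_mul, this]

theorem tau_lPerm (s : S) : tau D (lPerm D s) = (Fintype.card (Orb D) : ZMod p) * D.χ s := by
  unfold tau
  rw [Finset.sum_congr rfl (g := fun _ => D.χ s) fun i _ => ?_, Finset.sum_const, Finset.card_univ,
    nsmul_eq_mul]
  show D.μ (D.l s _) - _ = _
  rw [D.μ_l, add_sub_cancel_right]

theorem Realises.trans {e e' : D.X ≃ D.X} (he : Realises D e P f) {Q : Subgroup Ω}
    (he' : Realises D e' Q g) (hf : MapTo F P f) (hfQ : ∀ x ∈ P, f x ∈ Q) :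
    Realises D (e.trans e') P fun x => g (f x) := fun a b ha hab x => by
  show e' (e (D.l a x)) = D.l b (e' (e x))
  rw [he a ⟨f a, hf.mem ha⟩ ha rfl x]
  exact he' _ b (hfQ a ha) hab _

theorem Realises.congr {e : D.X ≃ D.X} (he : Realises D e P f) (h : ∀ x ∈ P, g x = f x) :
    Realises D e P g := fun a b ha hab x => he a b ha ((h a ha).symm.trans hab) x

theorem Realises.mono {e : D.X ≃ D.X} (he : Realises D e P f) (h : R ≤ P) :
    Realises D e R f := fun a b ha hab x => he a b (h ha) hab x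

theorem Realises.symm {e : D.X ≃ D.X} (he : Realises D e P f) (hf : MapTo F P f)
    (hgf : ∀ x ∈ P, g (f x) = x) : Realises D e.symm (img f P) g := fun a b ha hab x => by
  apply e.injective
  obtain ⟨c, hc, hca⟩ := (hf.mem_img_iff le_rfl).mp ha
  have hb : (b : Ω) = c := by rw [← hab, ← hca, hgf c hc]
  have hbP : (b : Ω) ∈ P := hb.symm ▸ hc
  rw [e.apply_symm_apply, he b a hbP (by rw [hb, hca]) (e.symm x), e.apply_symm_apply]

section Key

variable [Fact p.Prime]

open scoped Classical in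
/-- A permutation centralizing `P` has value zero when no conjugate of `P` is centralized outside
`T`. -/
theorem tau_eq_zero (hPS : P ≤ S) (hPp : IsPGroup p P)
    (hC : ∀ Q : Subgroup Ω, F.IsConj P Q → centralizerIn S Q ≤ T) {e : D.X ≃ D.X}
    (he : IsR D e) (hid : Realises D e P fun x => x) : tau D e = 0 := by
  let act : MulAction P (Orb D) :=
    { smul := fun a i => Quotient.map (sa := orbRel D) (sb := orbRel D)
        (D.l ⟨(a : Ω), hPS a.2⟩) (fun x y ⟨b, h⟩ => ⟨b, by rw [← D.l_r, h]⟩) i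
      one_smul := fun i => by
        refine Quotient.inductionOn i fun x => ?_
        exact congrArg (Quotient.mk (orbRel D)) (D.l_one x)
      mul_smul := fun a b i => by
        refine Quotient.inductionOn i fun x => ?_
        exact congrArg (Quotient.mk (orbRel D))
          (D.l_mul ⟨(a : Ω), hPS a.2⟩ ⟨(b : Ω), hPS b.2⟩ x) }
  have hsmul : ∀ (a : P) (i : Orb D),
      act.smul a i = omk D (D.l ⟨(a : Ω), hPS a.2⟩ (orep D i)) := fun a i => by
    conv_lhs => rw [← omk_orep D i]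
    rfl
  letI := act
  let φ : Orb D → ZMod p := fun i => D.μ (e (orep D i)) - D.μ (orep D i)
  have hφ : ∀ (a : P) i, φ (a • i) = φ i := fun a i => by
    show φ (act.smul a i) = φ i
    rw [hsmul]
    show D.μ (e (orep D (omk D _))) - D.μ (orep D (omk D _)) = _
    rw [diff_const D he, hid _ _ a.2 rfl, D.μ_l, D.μ_l]
    show _ = D.μ (e (orep D i)) - D.μ (orep D i)
    abel
  -- twisted points
  let PS : Type u := P → S
  let Fx : D.X → PS → Prop := fun x ψ => ∀ a : P, D.l ⟨(a : Ω), hPS a.2⟩ x = D.r x (ψ a)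
  have huniq : ∀ {x ψ ψ'}, Fx x ψ → Fx x ψ' → ψ = ψ' := fun {x ψ ψ'} h h' =>
    funext fun a => D.free x _ _ ((h a).symm.trans (h' a))
  have hr : ∀ {x ψ} (b : S), Fx x ψ → Fx (D.r x b) fun a => b⁻¹ * ψ a * b := by
    intro x ψ b h a
    rw [D.l_r, h a, ← D.r_mul, ← D.r_mul, ← mul_assoc, mul_inv_cancel_left]
  have hex : ∀ i : Orb D, (∀ a : P, a • i = i) → ∃ ψ, Fx (orep D i) ψ := fun i hi => by
    have h1 : ∀ a : P, ∃ b, D.r (orep D i) b = D.l ⟨(a : Ω), hPS a.2⟩ (orep D i) := fun a => by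
      obtain ⟨b, hb⟩ := exists_orep D (D.l ⟨(a : Ω), hPS a.2⟩ (orep D i))
      rw [← hsmul, show act.smul a i = i from hi a] at hb
      exact ⟨b, hb⟩
    choose ψ hψ using h1
    exact ⟨ψ, fun a => (hψ a).symm⟩
  have hcent : ∀ {x ψ}, Fx x ψ → ∀ s : S, (∀ a, s * ψ a * s⁻¹ = ψ a) → (s : Ω) ∈ T := by
    intro x ψ h s hs
    obtain ⟨Q, g, hg, hgQ⟩ := D.graph x
    have hPQ : P ≤ Q := fun a ha => (hgQ ⟨a, hPS ha⟩ (ψ ⟨a, ha⟩) (h ⟨a, ha⟩)).1
    refine hC _ (hg.restrict hPQ).isConj (mem_centralizerIn.mpr ⟨s.2, fun y hy => ?_⟩)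
    obtain ⟨a, ha, rfl⟩ := (hg.mem_img_iff hPQ).mp hy
    rw [(hgQ ⟨a, hPS ha⟩ (ψ ⟨a, ha⟩) (h ⟨a, ha⟩)).2]
    have h2 := congrArg Subtype.val (mul_inv_eq_iff_eq_mul.mp (hs ⟨a, ha⟩))
    exact h2.symm
  let conjRel : Setoid PS :=
    { r := fun ψ ψ' => ∃ s : S, ∀ a, ψ' a = s * ψ a * s⁻¹
      iseqv := ⟨fun ψ => ⟨1, fun a => by group⟩,
        fun {ψ ψ'} ⟨s, h⟩ => ⟨s⁻¹, fun a => by rw [h]; group⟩,
        fun {ψ ψ' ψ''} ⟨s, h⟩ ⟨s', h'⟩ => ⟨s' * s, fun a => by rw [h', h]; group⟩⟩ }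
  have hrep : ∀ ψ : PS, ∃ s : S, ∀ a,
      ψ a = s * (Quotient.mk conjRel ψ).out a * s⁻¹ := fun ψ =>
    Quotient.exact (Quotient.out_eq (Quotient.mk conjRel ψ))
  choose sel hsel using hrep
  let ν : D.X → ZMod p := fun x => if h : ∃ ψ, Fx x ψ then D.χ (sel h.choose) else 0
  have hν : ∀ {x ψ}, Fx x ψ → ν x = D.χ (sel ψ) := by
    intro x ψ h
    have h0 : ∃ ψ, Fx x ψ := ⟨ψ, h⟩
    show dite _ _ _ = _
    rw [dif_pos h0, huniq h0.choose_spec h]
  have hνr : ∀ {x ψ} (b : S), Fx x ψ → ν (D.r x b) = ν x - D.χ b := by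
    intro x ψ b h
    set ψ' : PS := fun a => b⁻¹ * ψ a * b with hψ'
    have hcls : Quotient.mk conjRel ψ' = Quotient.mk conjRel ψ :=
      (Quotient.sound (show conjRel.r ψ ψ' from ⟨b⁻¹, fun a => by rw [hψ']; group⟩)).symm
    rw [hν (hr b h), hν h]
    set s := sel ψ
    set s' := sel ψ'
    have hmem : ((b * s' * s⁻¹ : S) : Ω) ∈ T := by
      refine hcent h _ fun a => ?_
      have e1 : ψ a = s * (Quotient.mk conjRel ψ).out a * s⁻¹ := hsel ψ a
      have e2 : b⁻¹ * ψ a * b = s' * (Quotient.mk conjRel ψ).out a * s'⁻¹ := by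
        have := hsel ψ' a
        rw [hcls] at this
        exact this
      calc b * s' * s⁻¹ * ψ a * (b * s' * s⁻¹)⁻¹
          = b * (s' * (Quotient.mk conjRel ψ).out a * s'⁻¹) * b⁻¹ := by rw [e1]; group
        _ = ψ a := by rw [← e2]; group
    have h1 := (D.χ_eq_zero _ (b * s' * s⁻¹ : S).2).mpr hmem
    have h2 : D.χ (b : Ω) + D.χ (s' : Ω) = D.χ ((b * s' * s⁻¹ : S) : Ω) + D.χ (s : Ω) := by
      rw [← D.χ_mul _ b.2 _ s'.2, ← D.χ_mul _ (b * s' * s⁻¹ : S).2 _ s.2]
      simp [mul_assoc]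
    rw [h1, zero_add] at h2
    rw [← h2]; abel
  have hFe : ∀ {x ψ}, Fx x ψ → Fx (e x) ψ := by
    intro x ψ h a
    rw [← hid _ _ a.2 rfl, h a, he]
  unfold tau
  rw [sum_eq_sum_fixed hPp (fun a => by rw [nsmul_eq_mul, ZMod.natCast_self, zero_mul]) φ hφ]
  have hkey : ∀ i : Orb D, (∀ a : P, a • i = i) → φ i =
      (D.μ + ν) (orep D (orbPerm D he i)) - (D.μ + ν) (orep D i) := by
    intro i hi
    obtain ⟨ψ, hψ⟩ := hex i hi
    have hνe : ν (e (orep D i)) = ν (orep D i) := by rw [hν hψ, hν (hFe hψ)]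
    obtain ⟨b, hb⟩ := exists_orep D (e (orep D i))
    have hF' : Fx (orep D (omk D (e (orep D i)))) fun a => b * ψ a * b⁻¹ := by
      have h1 := hr b⁻¹ (hFe hψ)
      have h2 : D.r (e (orep D i)) b⁻¹ = orep D (omk D (e (orep D i))) := by
        conv_lhs => rw [← hb]
        rw [← D.r_mul, mul_inv_cancel, D.r_one]
      rw [h2] at h1
      simpa using h1
    show D.μ (e (orep D i)) - D.μ (orep D i) = (D.μ _ + ν _) - (D.μ _ + ν _)
    have e1 := hνr b hF'
    have e2 := D.μ_r (orep D (omk D (e (orep D i)))) b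
    rw [hb] at e1 e2
    rw [e2, ← hνe, e1]
    show _ = (D.μ (orep D (omk D (e (orep D i)))) + ν (orep D (omk D (e (orep D i))))) - _
    abel
  rw [Finset.sum_congr rfl fun i hi => hkey i (Finset.mem_filter.mp hi).2, Finset.sum_sub_distrib,
    sub_eq_zero]
  refine Finset.sum_equiv (orbPerm D he) (fun i => ?_) fun i _ => rfl
  simp only [Finset.mem_filter, Finset.mem_univ, true_and]
  have hcomm : ∀ (a : P) j, a • orbPerm D he j = orbPerm D he (a • j) := fun a j => by
    show act.smul a (omk D (e (orep D j))) = omk D (e (orep D (act.smul a j)))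
    rw [hsmul, hsmul]
    obtain ⟨b, hb⟩ := exists_orep D (e (orep D j))
    obtain ⟨c, hc⟩ := exists_orep D (D.l ⟨(a : Ω), hPS a.2⟩ (orep D j))
    have h1 := hid ⟨(a : Ω), hPS a.2⟩ ⟨(a : Ω), hPS a.2⟩ a.2 rfl (orep D j)
    rw [← hc, he, ← hb, D.l_r] at h1
    calc omk D (D.l _ (orep D (omk D (e (orep D j))))) = omk D (D.r (D.l ⟨(a : Ω), hPS a.2⟩
          (orep D (omk D (e (orep D j))))) b) := (omk_r D _ _).symm
      _ = omk D (D.r (e (orep D (omk D (D.l ⟨(a : Ω), hPS a.2⟩ (orep D j))))) c) := by rw [h1]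
      _ = _ := omk_r D _ _
  exact ⟨fun h a => by rw [hcomm, h a], fun h a => (orbPerm D he).injective (by rw [← hcomm, h a])⟩

end Key

end Cfsg.Agent.Fusion.IndexP
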